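import Cfsg.Agent.H407.TI.Over

/-!
# Character values on the powers of an element of order dividing 30 with `g ~ g ^ 17` (helper680, [3MCL-F])
-/

set_option autoImplicit false

namespace Cfsg.Agent.H680.TI

open Cfsg Cfsg.Agent.Characters.Core Cfsg.Agent.Characters.GaloisBasic Cfsg.Agent.H407.TI

universe u

variable {E : Type u} [Group E]

/-- the orbits of `k ↦ 17 k` on `ℤ/30` -/
theorem thirty_pair {χ : E → ℂ} (hχ : IsCharacter E χ) {g : E} (hg : g ^ 30 = 1)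
    (st : ∀ k, χ (g ^ (17 * k % 30)) = χ (g ^ k)) {w : ℂ} (hw : w ^ 15 = 1) {t1 t2 t3 t4 : ℂ}
    (h1 : w ^ 10 + w ^ 5 = t1) (h2 : w ^ 6 + w ^ 12 + w ^ 3 + w ^ 9 = t2) (h3 : w ^ 2 + w ^ 4 + w ^ 8 + w = t3)
    (h4 : w ^ 14 + w ^ 13 + w ^ 11 + w ^ 7 = t4) :
    ∃ a b : ℕ, χ 1 + χ (g ^ 10) * t1 + χ (g ^ 6) * t2 + χ (g ^ 16) * t3 + χ (g ^ 14) * t4 = 15 * (a + b) ∧
      χ (g ^ 15) + χ (g ^ 5) * t1 + χ (g ^ 3) * t2 + χ g * t3 + χ (g ^ 7) * t4 = 15 * (a - b) := by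
  obtain ⟨a, ha⟩ := exists_mult hχ (by norm_num) hg (w := w) (by linear_combination (w ^ 15 + 1) * hw)
  obtain ⟨b, hb⟩ := exists_mult hχ (by norm_num) hg (w := -w) (by linear_combination (w ^ 15 + 1) * hw)
  have e17 : χ (g ^ 17) = χ g := by simpa using st 1
  have e19 : χ (g ^ 19) = χ g := by rw [← e17]; simpa using st 17
  have e23 : χ (g ^ 23) = χ g := by rw [← e19]; simpa using st 19
  have e29 : χ (g ^ 29) = χ (g ^ 7) := by simpa using st 7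
  have e13 : χ (g ^ 13) = χ (g ^ 7) := by rw [← e29]; simpa using st 29
  have e11 : χ (g ^ 11) = χ (g ^ 7) := by rw [← e13]; simpa using st 13
  have e2 : χ (g ^ 2) = χ (g ^ 16) := by simpa using st 16
  have e4 : χ (g ^ 4) = χ (g ^ 16) := by rw [← e2]; simpa using st 2
  have e8 : χ (g ^ 8) = χ (g ^ 16) := by rw [← e4]; simpa using st 4
  have e28 : χ (g ^ 28) = χ (g ^ 14) := by simpa using st 14
  have e26 : χ (g ^ 26) = χ (g ^ 14) := by rw [← e28]; simpa using st 28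
  have e22 : χ (g ^ 22) = χ (g ^ 14) := by rw [← e26]; simpa using st 26
  have e20 : χ (g ^ 20) = χ (g ^ 10) := by simpa using st 10
  have e25 : χ (g ^ 25) = χ (g ^ 5) := by simpa using st 5
  have e12 : χ (g ^ 12) = χ (g ^ 6) := by simpa using st 6
  have e24 : χ (g ^ 24) = χ (g ^ 6) := by rw [← e12]; simpa using st 12
  have e18 : χ (g ^ 18) = χ (g ^ 6) := by rw [← e24]; simpa using st 24
  have e21 : χ (g ^ 21) = χ (g ^ 3) := by simpa using st 3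
  have e27 : χ (g ^ 27) = χ (g ^ 3) := by rw [← e21]; simpa using st 21
  have e9 : χ (g ^ 9) = χ (g ^ 3) := by rw [← e27]; simpa using st 27
  simp only [Finset.sum_range_succ, Finset.sum_range_zero, pow_zero, pow_one, zero_add, mul_one, e17, e19, e23, e29,
    e13, e11, e2, e4, e8, e28, e26, e22, e20, e25, e12, e24, e18, e21, e27, e9] at ha hb
  push_cast at ha hb
  subst h1 h2 h3 h4
  generalize χ 1 = d at *
  generalize χ (g ^ 10) = A3 at *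
  generalize χ (g ^ 15) = A2 at *
  generalize χ (g ^ 5) = A6 at *
  generalize χ (g ^ 6) = A5 at *
  generalize χ (g ^ 3) = A10 at *
  generalize χ (g ^ 16) = P at *
  generalize χ (g ^ 14) = Q at *
  generalize χ (g ^ 7) = V at *
  generalize χ g = U at *
  refine ⟨a, b, ?_, ?_⟩
  · linear_combination (ha + hb) / 2 - (P * w ^ 1 + A5 * w ^ 3 + A3 * w ^ 5 + Q * w ^ 7 + A5 * w ^ 9 + Q * w ^ 11 +
      Q * w ^ 13) * hw
  · linear_combination (ha - hb) / 2 - (A2 * w ^ 0 + U * w ^ 2 + U * w ^ 4 + A10 * w ^ 6 + U * w ^ 8 + A6 * w ^ 10 +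
      A10 * w ^ 12 + V * w ^ 14) * hw

/-- the fifteenth roots of unity and the given period -/
theorem exists_fifteen {η : ℂ} (hη : η * η = η - 4) : ∃ z : ℂ, z ^ 15 = 1 ∧ z ^ 10 + z ^ 5 = -1 ∧
    z ^ 6 + z ^ 12 + z ^ 3 + z ^ 9 = -1 ∧ z ^ 2 + z ^ 4 + z ^ 8 + z = η ∧
    z ^ 14 + z ^ 13 + z ^ 11 + z ^ 7 = 1 - η := by
  have h := Complex.isPrimitiveRoot_exp 15 (by norm_num)
  set ζ : ℂ := Complex.exp (2 * Real.pi * Complex.I / (15 : ℕ)) with hζ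
  have h1 : ζ ^ 15 = 1 := h.pow_eq_one
  have h2 := h.geom_sum_eq_zero (by norm_num)
  have h5 := (h.pow (a := 5) (b := 3) (by norm_num) (by norm_num)).geom_sum_eq_zero (by norm_num)
  have h3 := (h.pow (a := 3) (b := 5) (by norm_num) (by norm_num)).geom_sum_eq_zero (by norm_num)
  simp only [Finset.sum_range_succ, Finset.sum_range_zero, pow_zero, pow_one, zero_add] at h2 h3 h5
  have p1 : ζ ^ 10 + ζ ^ 5 = -1 := by linear_combination h5
  have p2 : ζ ^ 6 + ζ ^ 12 + ζ ^ 3 + ζ ^ 9 = -1 := by linear_combination h3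
  have p3 : (ζ ^ 2 + ζ ^ 4 + ζ ^ 8 + ζ) + (ζ ^ 14 + ζ ^ 13 + ζ ^ 11 + ζ ^ 7) = 1 := by
    linear_combination h2 - p1 - p2
  have p4 : (ζ ^ 2 + ζ ^ 4 + ζ ^ 8 + ζ) * (ζ ^ 14 + ζ ^ 13 + ζ ^ 11 + ζ ^ 7) = 4 := by
    linear_combination (4 + ζ + ζ ^ 2 + ζ ^ 3 + ζ ^ 4 + ζ ^ 6 + ζ ^ 7) * h1 + p3 + p2
  have p5 : (η - (ζ ^ 2 + ζ ^ 4 + ζ ^ 8 + ζ)) * (η - (ζ ^ 14 + ζ ^ 13 + ζ ^ 11 + ζ ^ 7)) = 0 := by
    linear_combination hη + p4 - η * p3
  rcases mul_eq_zero.1 p5 with h6 | h6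
  · refine ⟨ζ, h1, p1, p2, (sub_eq_zero.1 h6).symm, ?_⟩
    rw [sub_eq_zero.1 h6]
    linear_combination p3
  · refine ⟨ζ ^ 14, ?_, ?_, ?_, ?_, ?_⟩
    · rw [← pow_mul, mul_comm, pow_mul, h1, one_pow]
    · have red : ∀ n, ζ ^ n = ζ ^ (n % 15) := fun n => pow_eq_pow_mod n h1
      rw [← pow_mul, ← pow_mul, red (14 * 10), red (14 * 5)]
      norm_num
      linear_combination p1
    · have red : ∀ n, ζ ^ n = ζ ^ (n % 15) := fun n => pow_eq_pow_mod n h1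
      rw [← pow_mul, ← pow_mul, ← pow_mul, ← pow_mul, red (14 * 6), red (14 * 12), red (14 * 3), red (14 * 9)]
      norm_num
      linear_combination p2
    · have red : ∀ n, ζ ^ n = ζ ^ (n % 15) := fun n => pow_eq_pow_mod n h1
      rw [← pow_mul, ← pow_mul, ← pow_mul, red (14 * 2), red (14 * 4), red (14 * 8)]
      norm_num
      linear_combination -h6
    · have red : ∀ n, ζ ^ n = ζ ^ (n % 15) := fun n => pow_eq_pow_mod n h1
      rw [← pow_mul, ← pow_mul, ← pow_mul, ← pow_mul, red (14 * 14), red (14 * 13), red (14 * 11), red (14 * 7)]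
      norm_num
      linear_combination p3 + h6

/-- inversion of the matrix of periods -/
theorem invert {η d A3 A5 P Q S0 S5 S3 Sa Sb : ℂ} (hη : η * η = η - 4)
    (g0 : d + A3 * 2 + A5 * 4 + P * 4 + Q * 4 = 15 * S0)
    (g5 : d + A3 * (-1) + A5 * 4 + P * (-2) + Q * (-2) = 15 * S5)
    (g3 : d + A3 * 2 + A5 * (-1) + P * (-1) + Q * (-1) = 15 * S3)
    (ga : d + A3 * (-1) + A5 * (-1) + P * η + Q * (1 - η) = 15 * Sa)
    (gb : d + A3 * (-1) + A5 * (-1) + P * (1 - η) + Q * η = 15 * Sb) :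
    d = S0 + 2 * S5 + 4 * S3 + 4 * Sa + 4 * Sb ∧ A3 = S0 - S5 + 4 * S3 - 2 * Sa - 2 * Sb ∧
      A5 = S0 + 2 * S5 - S3 - Sa - Sb ∧ P = (S0 - S5 - S3 + Sa) + (Sb - Sa) * η := by
  refine ⟨?_, ?_, ?_, ?_⟩
  · linear_combination (g0 + 2 * g5 + 4 * g3 + 4 * ga + 4 * gb) / 15
  · linear_combination (g0 - g5 + 4 * g3 - 2 * ga - 2 * gb) / 15
  · linear_combination (g0 + 2 * g5 - g3 - ga - gb) / 15
  · linear_combination (g0 - g5 - g3 + ga + (gb - ga) * η) / 15 + (2 * P - 2 * Q) * hη / 15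

/-- **[3MCL-F]** -/
theorem thirty [Finite E] {η : ℂ} (hη : η * η = η - 4) {χ : E → ℂ} (hχ : IsCharacter E χ) {g : E} (hg : g ^ 30 = 1)
    (hc : IsConj g (g ^ 17)) {d : ℕ} (hd : χ 1 = d) :
    ∃ a2 a3 a5 a6 a10 p q r s : ℤ, χ (g ^ 15) = a2 ∧ χ (g ^ 10) = a3 ∧ χ (g ^ 6) = a5 ∧ χ (g ^ 5) = a6 ∧
      χ (g ^ 3) = a10 ∧ χ (g ^ 16) = p + q * η ∧ χ g = r + s * η ∧
      (2 : ℤ) ∣ a10 - a5 ∧ (5 : ℤ) ∣ a10 - a2 ∧ (3 : ℤ) ∣ a3 - d ∧ (3 : ℤ) ∣ a6 - a2 ∧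
      (3 : ℤ) ∣ a5 - p + q ∧ (5 : ℤ) ∣ a3 - p - 3 * q ∧ (3 : ℤ) ∣ a10 - r + s ∧ (5 : ℤ) ∣ a6 - r - 3 * s ∧
      (2 : ℤ) ∣ r - p ∧ (2 : ℤ) ∣ s - q := by
  have st : ∀ k, χ (g ^ (17 * k % 30)) = χ (g ^ k) := by
    intro k
    rw [← pow_eq_pow_mod _ hg, pow_mul]
    have h1 : IsConj (g ^ k) ((g ^ 17) ^ k) := by
      obtain ⟨c, hc⟩ := isConj_iff.1 hc
      exact isConj_iff.2 ⟨c, by rw [← conj_pow, hc]⟩
    exact (classFunction_apply_eq (isCharacter_isClassFunction hχ) h1).symm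
  obtain ⟨z, h15, z1, z2, z3, z4⟩ := exists_fifteen hη
  obtain ⟨a0, b0, e0, o0⟩ := thirty_pair hχ hg st (w := 1) (one_pow 15) (t1 := 2) (t2 := 4) (t3 := 4) (t4 := 4)
    (by norm_num) (by norm_num) (by norm_num) (by norm_num)
  have red : ∀ n, z ^ n = z ^ (n % 15) := fun n => pow_eq_pow_mod n h15
  obtain ⟨a5, b5, e5, o5⟩ := thirty_pair hχ hg st (w := z ^ 5) (by rw [← pow_mul, mul_comm, pow_mul, h15, one_pow])
    (t1 := -1) (t2 := 4) (t3 := -2) (t4 := -2)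
    (by
      rw [← pow_mul, ← pow_mul, red (5 * 10), red (5 * 5)]
      norm_num
      linear_combination z1)
    (by
      rw [← pow_mul, ← pow_mul, ← pow_mul, ← pow_mul, red (5 * 6), red (5 * 12), red (5 * 3), red (5 * 9)]
      norm_num)
    (by
      rw [← pow_mul, ← pow_mul, ← pow_mul, red (5 * 2), red (5 * 4), red (5 * 8)]
      norm_num
      linear_combination 2 * z1)
    (by
      rw [← pow_mul, ← pow_mul, ← pow_mul, ← pow_mul, red (5 * 14), red (5 * 13), red (5 * 11), red (5 * 7)]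
      norm_num
      linear_combination 2 * z1)
  obtain ⟨a3, b3, e3, o3⟩ := thirty_pair hχ hg st (w := z ^ 3) (by rw [← pow_mul, mul_comm, pow_mul, h15, one_pow])
    (t1 := 2) (t2 := -1) (t3 := -1) (t4 := -1)
    (by
      rw [← pow_mul, ← pow_mul, red (3 * 10), red (3 * 5)]
      norm_num)
    (by
      rw [← pow_mul, ← pow_mul, ← pow_mul, ← pow_mul, red (3 * 6), red (3 * 12), red (3 * 3), red (3 * 9)]
      norm_num
      linear_combination z2)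
    (by
      rw [← pow_mul, ← pow_mul, ← pow_mul, red (3 * 2), red (3 * 4), red (3 * 8)]
      norm_num
      linear_combination z2)
    (by
      rw [← pow_mul, ← pow_mul, ← pow_mul, ← pow_mul, red (3 * 14), red (3 * 13), red (3 * 11), red (3 * 7)]
      norm_num
      linear_combination z2)
  obtain ⟨aa, ba, ea, oa⟩ := thirty_pair hχ hg st (w := z) h15 z1 z2 z3 z4
  obtain ⟨ab, bb, eb, ob⟩ := thirty_pair hχ hg st (w := z ^ 14) (by rw [← pow_mul, mul_comm, pow_mul, h15, one_pow])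
    (t1 := -1) (t2 := -1) (t3 := 1 - η) (t4 := η)
    (by
      rw [← pow_mul, ← pow_mul, red (14 * 10), red (14 * 5)]
      norm_num
      linear_combination z1)
    (by
      rw [← pow_mul, ← pow_mul, ← pow_mul, ← pow_mul, red (14 * 6), red (14 * 12), red (14 * 3), red (14 * 9)]
      norm_num
      linear_combination z2)
    (by
      rw [← pow_mul, ← pow_mul, ← pow_mul, red (14 * 2), red (14 * 4), red (14 * 8)]
      norm_num
      linear_combination z4)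
    (by
      rw [← pow_mul, ← pow_mul, ← pow_mul, ← pow_mul, red (14 * 14), red (14 * 13), red (14 * 11), red (14 * 7)]
      norm_num
      linear_combination z3)
  obtain ⟨i1, i2, i3, i4⟩ := invert hη e0 e5 e3 ea eb
  obtain ⟨j1, j2, j3, j4⟩ := invert hη o0 o5 o3 oa ob
  rw [hd] at i1
  have i1' : (d : ℤ) = (a0 + b0) + 2 * (a5 + b5) + 4 * (a3 + b3) + 4 * (aa + ba) + 4 * (ab + bb) := by
    exact_mod_cast i1
  refine ⟨((a0 : ℤ) - b0) + 2 * (a5 - b5) + 4 * (a3 - b3) + 4 * (aa - ba) + 4 * (ab - bb),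
    ((a0 : ℤ) + b0) - (a5 + b5) + 4 * (a3 + b3) - 2 * (aa + ba) - 2 * (ab + bb),
    ((a0 : ℤ) + b0) + 2 * (a5 + b5) - (a3 + b3) - (aa + ba) - (ab + bb),
    ((a0 : ℤ) - b0) - (a5 - b5) + 4 * (a3 - b3) - 2 * (aa - ba) - 2 * (ab - bb),
    ((a0 : ℤ) - b0) + 2 * (a5 - b5) - (a3 - b3) - (aa - ba) - (ab - bb),
    ((a0 : ℤ) + b0) - (a5 + b5) - (a3 + b3) + (aa + ba), (ab + bb) - (aa + ba),
    ((a0 : ℤ) - b0) - (a5 - b5) - (a3 - b3) + (aa - ba), (ab - bb) - (aa - ba),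
    ?_, ?_, ?_, ?_, ?_, ?_, ?_, ?_, ?_, ?_, ?_, ?_, ?_, ?_, ?_, ?_, ?_⟩
  · push_cast; exact j1
  · push_cast; exact i2
  · push_cast; exact i3
  · push_cast; exact j2
  · push_cast; exact j3
  · push_cast; exact i4
  · push_cast; exact j4
  all_goals omega

end Cfsg.Agent.H680.TI
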